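import Cfsg.Agent.Lib.CosetEnum.RuStepL.DefsPart0
import Cfsg.Agent.Lib.CosetEnum.RuStepL.StepsPart0
import Cfsg.Agent.Lib.CosetEnum.RuStepL.ClosedPart0

/-! Generated certificate. -/

set_option autoImplicit false
set_option maxRecDepth 20000

namespace Cfsg.Lib.CosetEnum.RuStepL

theorem step_valid {R0 : List (List Nat)} (h : shiftsOK R0 relWords = true) : step.Valid R0 where
  pos := by decide +kernel
  shifts := h
  defs := (defsOK_append (a := 4000) (b := 1615) defs_0 defs_1)
  steps := (stepsOK_append (m := 1500) (n := 1333) steps_0 steps_1)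
  closed := (closedOK_append (a := 4000) (b := 1616) closed_0 closed_1)

end Cfsg.Lib.CosetEnum.RuStepL
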